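import Mathlib

/-! Flatness descends along an injective ring map out of a ring with nilpotent maximal ideal. -/

set_option autoImplicit false

universe u

open TensorProduct IsLocalRing

namespace TopFlatLib

theorem mem_smul_of_lTensor_mkQ {R R' F : Type u} [CommRing R] [CommRing R'] [Algebra R R'] [AddCommGroup F] [Module R F]
    (J : Ideal R) (z : R' ⊗[R] F) (h : LinearMap.lTensor R' (J • (⊤ : Submodule R F)).mkQ z = 0) :
    z ∈ J.map (algebraMap R R') • (⊤ : Submodule R' (R' ⊗[R] F)) := by
  obtain ⟨w, rfl⟩ := (lTensor_exact R' (LinearMap.exact_subtype_mkQ _) (Submodule.mkQ_surjective _) z).1 h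
  clear h
  induction w using TensorProduct.induction_on with
  | zero => rw [map_zero]; exact zero_mem _
  | add x y hx hy => rw [map_add]; exact add_mem hx hy
  | tmul r x =>
    rw [LinearMap.lTensor_tmul]
    obtain ⟨x, hx⟩ := x
    show r ⊗ₜ[R] x ∈ _
    refine Submodule.smul_induction_on hx (fun c hc y _ => ?_) fun x y hx hy => ?_
    · rw [tmul_smul, ← IsScalarTower.algebraMap_smul R' c (r ⊗ₜ[R] y)]
      exact Submodule.smul_mem_smul (Ideal.mem_map_of_mem _ hc) trivial
    · rw [tmul_add]; exact add_mem hx hy

theorem free_of_flat_baseChange {R R' : Type u} [CommRing R] [IsLocalRing R] [CommRing R'] [Algebra R R']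
    (hinj : Function.Injective (algebraMap R R')) (hnil : IsNilpotent (maximalIdeal R))
    (M : Type u) [AddCommGroup M] [Module R M] [Module.Flat R' (R' ⊗[R] M)] : Module.Free R M := by
  classical
  letI : Module (ResidueField R) (M ⧸ (maximalIdeal R • ⊤ : Submodule R M)) :=
    inferInstanceAs (Module (R ⧸ maximalIdeal R) (M ⧸ (maximalIdeal R • ⊤ : Submodule R M)))
  obtain ⟨ι, ⟨b⟩⟩ : ∃ ι : Type u, Nonempty (Module.Basis ι (ResidueField R) (M ⧸ (maximalIdeal R • ⊤ : Submodule R M))) :=
    ⟨_, ⟨Module.Basis.ofVectorSpace (ResidueField R) _⟩⟩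
  choose v hv using fun i => Submodule.Quotient.mk_surjective (maximalIdeal R • ⊤ : Submodule R M) (b i)
  let f := Finsupp.linearCombination R v
  have hcomb : ∀ a, Submodule.Quotient.mk (p := (maximalIdeal R • ⊤ : Submodule R M)) (f a) =
      Finsupp.linearCombination (ResidueField R) b (a.mapRange (residue R) (map_zero _)) := fun a => by
    rw [Finsupp.linearCombination_apply, Finsupp.linearCombination_apply, ← Submodule.mkQ_apply, map_finsuppSum,
      Finsupp.sum_mapRange_index]
    swap
    · exact fun i => zero_smul _ _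
    refine Finsupp.sum_congr fun i _ => ?_
    rw [map_smul, Submodule.mkQ_apply, hv]
    rfl
  have hlin : ∀ a, f a ∈ (maximalIdeal R • ⊤ : Submodule R M) → ∀ i, a i ∈ maximalIdeal R := fun a ha i => by
    have h0 : a.mapRange (residue R) (map_zero _) = 0 :=
      b.linearIndependent (a₁ := _) (a₂ := 0) (by
        rw [map_zero, ← hcomb, (Submodule.Quotient.mk_eq_zero (maximalIdeal R • ⊤ : Submodule R M)).2 ha])
    exact (residue_eq_zero_iff _).1 (by simpa using congrArg (fun c => c i) h0)
  obtain ⟨k, hk⟩ := hnil
  have hsurj : Function.Surjective f := by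
    rw [← LinearMap.range_eq_top]
    have hle : (⊤ : Submodule R M) ≤ LinearMap.range f ⊔ (maximalIdeal R • ⊤ : Submodule R M) := fun y _ => by
      obtain ⟨c, hc⟩ : ∃ c, Finsupp.linearCombination (ResidueField R) b c = Submodule.Quotient.mk y :=
        ⟨_, b.linearCombination_repr _⟩
      choose a ha using fun i => residue_surjective (R := R) (c i)
      let a' := Finsupp.onFinset c.support (fun i => if c i = 0 then 0 else a i) fun i hi => by
        by_contra h
        exact hi (by simp [Finsupp.notMem_support_iff.1 h])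
      refine Submodule.mem_sup.2 ⟨f a', ⟨a', rfl⟩, y - f a', ?_, add_sub_cancel _ _⟩
      rw [← Submodule.Quotient.mk_eq_zero, Submodule.Quotient.mk_sub, hcomb, ← hc, sub_eq_zero]
      congr 1
      ext i
      by_cases h : c i = 0 <;> simp [a', h, ha]
    have key : ∀ j : ℕ, (⊤ : Submodule R M) ≤ LinearMap.range f ⊔ (maximalIdeal R ^ j) • ⊤ := by
      intro j
      induction j with
      | zero => simp
      | succ j ih =>
        refine ih.trans (sup_le le_sup_left ?_)
        refine (Submodule.smul_mono le_rfl hle).trans ?_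
        rw [Submodule.smul_sup, ← Submodule.mul_smul, pow_succ]
        exact sup_le_sup_right Submodule.smul_le_right _
    exact top_le_iff.1 (by simpa [hk] using key k)
  let f' := f.baseChange R'
  let I := (maximalIdeal R).map (algebraMap R R')
  let L := LinearMap.ker f'
  have hf' : Function.Surjective f' := LinearMap.lTensor_surjective R' hsurj
  have hF : ∀ z, f' z = 0 → z ∈ I • (⊤ : Submodule R' (R' ⊗[R] (ι →₀ R))) := fun z hz => by
    let P : Submodule R _ := maximalIdeal R • (⊤ : Submodule R (ι →₀ R))
    have hP : P ≤ (maximalIdeal R • ⊤ : Submodule R M).comap f := Submodule.map_le_iff_le_comap.1 (by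
      rw [Submodule.map_smul'']; exact Submodule.smul_mono le_rfl le_top)
    let fb := P.mapQ (maximalIdeal R • ⊤ : Submodule R M) f hP
    have hfb : Function.Bijective fb := by
      refine ⟨(injective_iff_map_eq_zero fb).2 fun x hx => ?_, fun y => ?_⟩
      · obtain ⟨x, rfl⟩ := Submodule.Quotient.mk_surjective _ x
        refine (Submodule.Quotient.mk_eq_zero _).2 ?_
        rw [← Finsupp.sum_single x]
        refine sum_mem fun i _ => ?_
        rw [← Finsupp.smul_single_one]
        exact Submodule.smul_mem_smul (hlin x ((Submodule.Quotient.mk_eq_zero _).1 hx) i) trivial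
      · obtain ⟨y, rfl⟩ := Submodule.Quotient.mk_surjective _ y
        obtain ⟨x, rfl⟩ := hsurj y
        exact ⟨Submodule.Quotient.mk x, rfl⟩
    have h1 : LinearMap.lTensor R' P.mkQ z = 0 := by
      refine (LinearEquiv.lTensor R' (LinearEquiv.ofBijective fb hfb)).injective ?_
      rw [map_zero]
      show LinearMap.lTensor R' fb (LinearMap.lTensor R' P.mkQ z) = 0
      rw [← LinearMap.lTensor_comp_apply, show fb ∘ₗ P.mkQ = (maximalIdeal R • ⊤ : Submodule R M).mkQ ∘ₗ f from rfl, LinearMap.lTensor_comp_apply]
      exact (congrArg (LinearMap.lTensor R' (maximalIdeal R • ⊤ : Submodule R M).mkQ) hz).trans (map_zero _)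
    exact mem_smul_of_lTensor_mkQ _ z h1
  have hpure : L ≤ I • L := fun z hz => by
    have hz' : z ∈ I • Submodule.span R' (Set.range (id : (R' ⊗[R] (ι →₀ R)) → _)) := by
      rw [Set.range_id, Submodule.span_univ]; exact hF z hz
    obtain ⟨c, hc, hcz⟩ := (Submodule.mem_ideal_smul_span_iff_exists_sum I id z).1 hz'
    have h0 : ∑ i : c.support, c i.1 • f' i.1 = 0 := by
      refine Eq.trans ?_ (show f' z = 0 from hz)
      rw [← hcz, map_finsuppSum, Finsupp.sum]
      refine (Finset.sum_coe_sort c.support (fun i => c i • f' i)).trans ?_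
      exact Finset.sum_congr rfl fun i _ => (map_smul f' (c i) i).symm
    obtain ⟨l, a, y, hy, ha⟩ := Module.Flat.isTrivialRelation_of_sum_smul_eq_zero h0
    choose w hw using fun j => hf' (y j)
    have e : z = ∑ i : c.support, c i.1 • (i.1 - ∑ j, a i j • w j) := by
      have h2 : ∑ i : c.support, c i.1 • ∑ j, a i j • w j = 0 := by
        simp_rw [Finset.smul_sum, smul_smul]
        rw [Finset.sum_comm]
        exact Finset.sum_eq_zero fun j _ => by rw [← Finset.sum_smul, ha j, zero_smul]
      simp_rw [smul_sub]
      rw [Finset.sum_sub_distrib, h2, sub_zero, ← hcz, Finsupp.sum]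
      exact (Finset.sum_coe_sort c.support (fun i => c i • i)).symm
    rw [e]
    refine sum_mem fun i _ => Submodule.smul_mem_smul (hc _) ?_
    show f' (i.1 - ∑ j, a i j • w j) = 0
    rw [map_sub, map_sum, sub_eq_zero]
    refine (hy i).trans ?_
    exact Finset.sum_congr rfl fun j _ => by rw [map_smul, hw]
  have hpow : ∀ j : ℕ, L ≤ I ^ j • L := by
    intro j
    induction j with
    | zero => simp
    | succ j ih =>
      refine ih.trans ((Submodule.smul_mono le_rfl hpure).trans ?_)
      rw [← Submodule.mul_smul, pow_succ]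
  have hL : L = ⊥ := by
    refine le_bot_iff.1 ((hpow k).trans ?_)
    rw [← Ideal.map_pow, hk, Ideal.zero_eq_bot, Ideal.map_bot, Submodule.bot_smul]
  have hk0 : Function.Injective f := (injective_iff_map_eq_zero f).2 fun x hx => by
    have h1 : (1 : R') ⊗ₜ[R] x ∈ L := by
      show f' (1 ⊗ₜ[R] x) = 0
      rw [LinearMap.baseChange_tmul, hx, tmul_zero]
    rw [hL, Submodule.mem_bot] at h1
    refine Finsupp.ext fun i => hinj ?_
    have h2 := congrArg (fun z => TensorProduct.finsuppScalarRight R R R' _ z i) h1
    simp only [TensorProduct.finsuppScalarRight_apply_tmul_apply, map_zero, Finsupp.coe_zero, Pi.zero_apply] at h2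
    show algebraMap R R' (x i) = algebraMap R R' 0
    rw [map_zero, Algebra.algebraMap_eq_smul_one]
    exact h2
  exact Module.Free.of_equiv (LinearEquiv.ofBijective f ⟨hk0, hsurj⟩)

end TopFlatLib
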